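import Mathlib
import Cfsg.Agent.H24.Extraspecial

/-!
Groups of exponent three built from pairs with central commutator.
-/

set_option autoImplicit false

namespace Cfsg.Agent.H72.M23Three

open scoped commutatorElement

variable {G : Type*} [Group G]

/-- A group above a central element of order three with elementary central quotient. -/
structure Block (z : G) (H : Subgroup G) : Prop where
  mem : z ∈ H
  cent : ∀ h ∈ H, Commute z h
  cube : ∀ h ∈ H, h ^ 3 ∈ Subgroup.zpowers z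
  comm : ∀ g ∈ H, ∀ h ∈ H, ∃ c ∈ Subgroup.zpowers z, g * h = h * g * c
  center : ∀ g ∈ H, (∀ h ∈ H, Commute g h) → g ∈ Subgroup.zpowers z

theorem block_zero (z : G) (hz : z ^ 3 = 1) : Block z (Subgroup.zpowers z) where
  mem := Subgroup.mem_zpowers z
  cent := by
    rintro _ ⟨k, rfl⟩
    exact (Commute.refl z).zpow_right k
  cube := fun _ hh => pow_mem hh 3
  comm := by
    rintro _ ⟨i, rfl⟩ _ ⟨j, rfl⟩
    exact ⟨1, one_mem _, by rw [mul_one]; exact ((Commute.refl z).zpow_zpow i j).eq⟩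
  center := fun _ hg _ => hg

/-- Powers of a pair with central commutator. -/
theorem pair_swap {a b c : G} (h : b * a = a * b * c) (ha : Commute c a) (hb : Commute c b)
    (x y : ℕ) : b ^ y * a ^ x = a ^ x * b ^ y * c ^ (x * y) := by
  have h1 : ∀ x : ℕ, b * a ^ x = a ^ x * b * c ^ x := by
    intro x
    induction x with
    | zero => simp
    | succ n ih =>
      rw [pow_succ, ← mul_assoc, ih, mul_assoc (a ^ n * b), (ha.pow_left n).eq, ← mul_assoc,
        mul_assoc (a ^ n) b a, h, pow_succ' c n]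
      group
  induction y with
  | zero => simp
  | succ n ih =>
    rw [pow_succ' b n, mul_assoc, ih, ← mul_assoc, ← mul_assoc, h1,
      mul_assoc (a ^ x * b) (c ^ x), (hb.pow_pow x n).eq, Nat.mul_succ, pow_add c (x * n) x,
      (Commute.pow_pow_self c (x * n) x).eq]
    group

/-- Adding a pair that commutes with the group. -/
theorem Block.step [Finite G] {z a b : G} {H : Subgroup G} (hH : Block z H) (hz : orderOf z = 3)
    {s : ℕ} (hs : ¬ 3 ∣ s) (ha3 : a ^ 3 = 1) (hb3 : b ^ 3 = 1) (hza : Commute z a)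
    (hzb : Commute z b) (hab : b * a = a * b * z ^ s) (hHa : ∀ h ∈ H, Commute h a)
    (hHb : ∀ h ∈ H, Commute h b) :
    ∃ K : Subgroup G, K = H ⊔ Subgroup.closure {a, b} ∧ Block z K ∧
      Nat.card K = 9 * Nat.card H := by
  have hsw := pair_swap hab (hza.pow_left s) (hzb.pow_left s)
  have hHp : ∀ h ∈ H, ∀ x y : ℕ, Commute h (a ^ x * b ^ y) := fun h hh x y =>
    ((hHa h hh).pow_right x).mul_right ((hHb h hh).pow_right y)
  have hzp : ∀ n x y : ℕ, Commute (z ^ n) (a ^ x * b ^ y) := fun n x y =>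
    ((hza.pow_pow n x).mul_right (hzb.pow_pow n y))
  have hmul : ∀ h ∈ H, ∀ h' ∈ H, ∀ x y u v : ℕ,
      h * (a ^ x * b ^ y) * (h' * (a ^ u * b ^ v)) =
        h * h' * z ^ (s * (u * y)) * (a ^ (x + u) * b ^ (y + v)) := by
    intro h _ h' hh' x y u v
    calc h * (a ^ x * b ^ y) * (h' * (a ^ u * b ^ v))
        = h * ((a ^ x * b ^ y) * h') * (a ^ u * b ^ v) := by group
      _ = h * (h' * (a ^ x * b ^ y)) * (a ^ u * b ^ v) := by rw [(hHp h' hh' x y).eq]
      _ = h * h' * a ^ x * (b ^ y * a ^ u) * b ^ v := by group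
      _ = h * h' * a ^ x * (a ^ u * b ^ y * z ^ (s * (u * y))) * b ^ v := by
          rw [hsw, ← pow_mul]
      _ = h * h' * (a ^ x * a ^ u) * b ^ y * (z ^ (s * (u * y)) * b ^ v) := by group
      _ = h * h' * (a ^ x * a ^ u) * b ^ y * (b ^ v * z ^ (s * (u * y))) := by
          rw [(hzb.pow_pow _ v).eq]
      _ = h * h' * (a ^ (x + u) * b ^ (y + v) * z ^ (s * (u * y))) := by
          rw [pow_add, pow_add]; group
      _ = _ := by rw [← (hzp (s * (u * y)) (x + u) (y + v)).eq]; group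
  obtain ⟨S, hS⟩ : ∃ S : Submonoid G,
      ∀ g, g ∈ S ↔ ∃ h ∈ H, ∃ x y : ℕ, g = h * (a ^ x * b ^ y) := by
    refine ⟨{ carrier := {g | ∃ h ∈ H, ∃ x y : ℕ, g = h * (a ^ x * b ^ y)}
              one_mem' := ⟨1, one_mem _, 0, 0, by simp⟩
              mul_mem' := ?_ }, fun g => Iff.rfl⟩
    rintro _ _ ⟨h, hh, x, y, rfl⟩ ⟨h', hh', u, v, rfl⟩
    exact ⟨_, mul_mem (mul_mem hh hh') (pow_mem hH.mem _), _, _, hmul h hh h' hh' x y u v⟩
  have hinv : ∀ g ∈ S, g⁻¹ ∈ S := fun g hg => by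
    have : g⁻¹ ∈ Submonoid.powers g := by
      rw [(isOfFinOrder_of_finite g).mem_powers_iff_mem_zpowers]
      exact inv_mem (Subgroup.mem_zpowers g)
    obtain ⟨k, hk⟩ := this
    rw [← hk]
    exact pow_mem hg k
  let K : Subgroup G := { S with inv_mem' := fun {g} hg => hinv g hg }
  have hK : ∀ g, g ∈ K ↔ ∃ h ∈ H, ∃ x y : ℕ, g = h * (a ^ x * b ^ y) := hS
  have hmemK : H ≤ K := fun h hh => (hK h).2 ⟨h, hh, 0, 0, by simp⟩
  have haK : a ∈ K := (hK a).2 ⟨1, one_mem _, 1, 0, by simp⟩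
  have hbK : b ∈ K := (hK b).2 ⟨1, one_mem _, 0, 1, by simp⟩
  -- a product of the pair commuting with both is trivial
  have hcoef : ∀ h ∈ H, ∀ x y : ℕ, Commute (h * (a ^ x * b ^ y)) a →
      Commute (h * (a ^ x * b ^ y)) b → 3 ∣ x ∧ 3 ∣ y := by
    intro h hh x y hca hcb
    have ea := hmul h hh 1 (one_mem _) x y 1 0
    have ea' := hmul 1 (one_mem _) h hh 1 0 x y
    have eb := hmul h hh 1 (one_mem _) x y 0 1
    have eb' := hmul 1 (one_mem _) h hh 0 1 x y
    simp only [pow_one, pow_zero, mul_one, one_mul, mul_zero, zero_mul, add_zero, zero_add]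
      at ea ea' eb eb'
    rw [hca.eq, ea', add_comm 1 x] at ea
    rw [hcb.eq, eb', add_comm 1 y] at eb
    have h1 : z ^ (s * y) = 1 := mul_eq_left.1 (mul_right_cancel ea).symm
    have h2 : z ^ (s * x) = 1 := mul_eq_left.1 (mul_right_cancel eb)
    rw [← orderOf_dvd_iff_pow_eq_one, hz] at h1 h2
    exact ⟨(Nat.prime_three.dvd_mul.1 h2).resolve_left hs,
      (Nat.prime_three.dvd_mul.1 h1).resolve_left hs⟩
  have hred : ∀ {c : G}, c ^ 3 = 1 → ∀ n : ℕ, c ^ n = c ^ (n % 3) := fun {c} hc n => by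
    conv_lhs => rw [← Nat.mod_add_div n 3, pow_add, pow_mul, hc, one_pow, mul_one]
  have hblock : Block z K := by
    refine ⟨hmemK hH.mem, ?_, ?_, ?_, ?_⟩
    · intro g hg
      obtain ⟨h, hh, x, y, rfl⟩ := (hK g).1 hg
      exact (hH.cent h hh).mul_right (by simpa using hzp 1 x y)
    · intro g hg
      obtain ⟨h, hh, x, y, rfl⟩ := (hK g).1 hg
      rw [pow_succ, pow_two, hmul h hh h hh x y x y]
      have hm : h * h * z ^ (s * (x * y)) ∈ H := mul_mem (mul_mem hh hh) (pow_mem hH.mem _)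
      rw [hmul _ hm h hh (x + x) (y + y) x y, hred ha3, hred hb3,
        show (x + x + x) % 3 = 0 by omega, show (y + y + y) % 3 = 0 by omega, pow_zero, pow_zero,
        mul_one, mul_one, mul_assoc (h * h), ((hH.cent h hh).pow_left _).eq, ← mul_assoc,
        show h * h * h = h ^ 3 by rw [pow_succ, pow_two], mul_assoc]
      exact mul_mem (hH.cube h hh) (mul_mem (pow_mem (Subgroup.mem_zpowers z) _)
        (pow_mem (Subgroup.mem_zpowers z) _))
    · intro g hg g' hg'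
      obtain ⟨h, hh, x, y, rfl⟩ := (hK g).1 hg
      obtain ⟨h', hh', u, v, rfl⟩ := (hK g').1 hg'
      obtain ⟨c, hc, e⟩ := hH.comm h hh h' hh'
      refine ⟨(z ^ (s * (x * v)))⁻¹ * c * z ^ (s * (u * y)),
        mul_mem (mul_mem (inv_mem (pow_mem (Subgroup.mem_zpowers z) _)) hc)
          (pow_mem (Subgroup.mem_zpowers z) _), ?_⟩
      rw [hmul h hh h' hh' x y u v, hmul h' hh' h hh u v x y, e, add_comm u x, add_comm v y]
      have hcz : ∀ {w : G}, w ∈ Subgroup.zpowers z → Commute w (a ^ (x + u) * b ^ (y + v)) := by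
        rintro w ⟨k, rfl⟩
        exact (show Commute z (a ^ (x + u) * b ^ (y + v)) by simpa using hzp 1 _ _).zpow_left k
      rw [mul_assoc (h' * h * z ^ (s * (x * v))) (a ^ (x + u) * b ^ (y + v)),
        ← (hcz (mul_mem (mul_mem (inv_mem (pow_mem (Subgroup.mem_zpowers z) _)) hc)
          (pow_mem (Subgroup.mem_zpowers z) _))).eq]
      group
    · intro g hg hall
      obtain ⟨h, hh, x, y, rfl⟩ := (hK g).1 hg
      obtain ⟨hx, hy⟩ := hcoef h hh x y (hall a haK) (hall b hbK)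
      rw [hred ha3, hred hb3, Nat.eq_zero_of_dvd_of_lt (by omega) (Nat.mod_lt x (by norm_num)),
        Nat.eq_zero_of_dvd_of_lt (by omega) (Nat.mod_lt y (by norm_num)), pow_zero, pow_zero,
        mul_one, mul_one] at hall ⊢
      exact hH.center h hh fun k hk => hall k (hmemK hk)
  refine ⟨K, le_antisymm ?_ (sup_le hmemK ((Subgroup.closure_le _).2 ?_)), hblock, ?_⟩
  · intro g hg
    obtain ⟨h, hh, x, y, rfl⟩ := (hK g).1 hg
    exact mul_mem (Subgroup.mem_sup_left hh) (Subgroup.mem_sup_right (mul_mem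
      (pow_mem (Subgroup.subset_closure (by simp)) x) (pow_mem (Subgroup.subset_closure (by simp)) y)))
  · rintro g (rfl | rfl)
    exacts [haK, hbK]
  let f : H × Fin 3 × Fin 3 → K := fun p =>
    ⟨p.1 * (a ^ (p.2.1 : ℕ) * b ^ (p.2.2 : ℕ)), (hK _).2 ⟨_, p.1.2, _, _, rfl⟩⟩
  have hf : Function.Bijective f := by
    refine ⟨?_, fun g => ?_⟩
    · rintro ⟨⟨h, hh⟩, x, y⟩ ⟨⟨h', hh'⟩, u, v⟩ e
      have e' : h * (a ^ (x : ℕ) * b ^ (y : ℕ)) = h' * (a ^ (u : ℕ) * b ^ (v : ℕ)) :=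
        congrArg Subtype.val e
      have e2 : (a ^ (x : ℕ) * b ^ (y : ℕ)) * (a ^ (u : ℕ) * b ^ (v : ℕ))⁻¹ ∈ H := by
        rw [show (a ^ (x : ℕ) * b ^ (y : ℕ)) * (a ^ (u : ℕ) * b ^ (v : ℕ))⁻¹ = h⁻¹ * h' by
          rw [eq_inv_mul_iff_mul_eq, ← mul_assoc, e', mul_inv_cancel_right]]
        exact mul_mem (inv_mem hh) hh'
      have hpK : (a ^ (x : ℕ) * b ^ (y : ℕ)) * (a ^ (u : ℕ) * b ^ (v : ℕ))⁻¹ ∈ K := hmemK e2
      obtain ⟨k, hk, p, q, hpq⟩ : ∃ k ∈ H, ∃ p q : ℕ,
          (a ^ (x : ℕ) * b ^ (y : ℕ)) * (a ^ (u : ℕ) * b ^ (v : ℕ))⁻¹ = k * (a ^ p * b ^ q) ∧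
            (p + u) % 3 = x ∧ (q + v) % 3 = y := by
        refine ⟨(z ^ (s * ((u : ℕ) * ((y : ℕ) + 2 * v))))⁻¹, inv_mem (pow_mem hH.mem _),
          (x : ℕ) + 2 * u, (y : ℕ) + 2 * v, ?_, by omega, by omega⟩
        rw [mul_inv_eq_iff_eq_mul]
        have := hmul (z ^ (s * ((u : ℕ) * ((y : ℕ) + 2 * v))))⁻¹ (inv_mem (pow_mem hH.mem _)) 1
          (one_mem _) ((x : ℕ) + 2 * u) ((y : ℕ) + 2 * v) u v
        rw [one_mul, mul_one, inv_mul_cancel, one_mul] at this
        rw [this, hred ha3 ((x : ℕ) + 2 * u + u), hred hb3 ((y : ℕ) + 2 * v + v),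
          show ((x : ℕ) + 2 * u + u) % 3 = x by omega, show ((y : ℕ) + 2 * v + v) % 3 = y by omega]
      obtain ⟨hpq, hp, hq⟩ := hpq
      rw [hpq] at e2
      obtain ⟨dx, dy⟩ := hcoef k hk p q (hHa _ e2) (hHb _ e2)
      obtain rfl : x = u := by ext; omega
      obtain rfl : y = v := by ext; omega
      obtain rfl : h = h' := mul_right_cancel e'
      rfl
    · obtain ⟨h, hh, x, y, hg⟩ := (hK g).1 g.2
      refine ⟨⟨⟨h, hh⟩, ⟨x % 3, Nat.mod_lt _ (by norm_num)⟩, ⟨y % 3, Nat.mod_lt _ (by norm_num)⟩⟩,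
        Subtype.ext ?_⟩
      rw [hg]
      simp only [f, ← hred ha3, ← hred hb3]
  rw [← Nat.card_eq_of_bijective f hf]
  simp [Nat.card_prod, mul_comm]

/-- Four mutually commuting pairs give an extraspecial group of order `3 ^ 9`. -/
theorem pairs_extraspecial [Finite G] {z : G} (hz : orderOf z = 3) (a b : Fin 4 → G)
    (s : Fin 4 → ℕ) (hs : ∀ i, ¬ 3 ∣ s i) (ha : ∀ i, a i ^ 3 = 1) (hb : ∀ i, b i ^ 3 = 1)
    (hza : ∀ i, Commute z (a i)) (hzb : ∀ i, Commute z (b i))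
    (hab : ∀ i, b i * a i = a i * b i * z ^ s i)
    (hx : ∀ i j, i ≠ j → Commute (a i) (a j) ∧ Commute (a i) (b j) ∧ Commute (b i) (b j)) :
    let S := Subgroup.closure (insert z (Set.range a ∪ Set.range b))
    Block z S ∧ Nat.card S = 3 ^ 9 ∧ Cfsg.IsExtraspecial 3 ↥S := by
  intro S
  have hz3 : z ^ 3 = 1 := hz ▸ pow_orderOf_eq_one z
  have key : ∀ n, n ≤ 4 → ∃ H : Subgroup G, H = Subgroup.closure
      (insert z ({g | ∃ i : Fin 4, (i : ℕ) < n ∧ (g = a i ∨ g = b i)})) ∧ Block z H ∧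
        Nat.card H = 3 ^ (2 * n + 1) := by
    intro n hn
    induction n with
    | zero =>
      refine ⟨_, ?_, block_zero z hz3, by rw [Nat.card_zpowers, hz, pow_one]⟩
      rw [Subgroup.zpowers_eq_closure]
      congr 1
      ext g
      simp
    | succ k ih =>
      obtain ⟨H, hH, hB, hc⟩ := ih (by omega)
      have hcom : ∀ c, (c = a ⟨k, hn⟩ ∨ c = b ⟨k, hn⟩) → ∀ h ∈ H, Commute h c := by
        intro c hc h hh
        have hle : H ≤ Subgroup.centralizer ({c} : Set G) := by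
          rw [hH, Subgroup.closure_le]
          rintro g (rfl | ⟨i, hi, hg⟩) <;> refine Subgroup.mem_centralizer_singleton_iff.2 ?_
          · rcases hc with rfl | rfl
            exacts [(hza _).eq, (hzb _).eq]
          · obtain ⟨h1, h2, h3⟩ := hx i ⟨k, hn⟩ (fun e => absurd (congrArg Fin.val e) (by simp; omega))
            obtain ⟨-, h2', -⟩ := hx ⟨k, hn⟩ i (fun e => absurd (congrArg Fin.val e) (by simp; omega))
            rcases hg with rfl | rfl <;> rcases hc with rfl | rfl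
            exacts [h1.eq, h2.eq, h2'.symm.eq, h3.eq]
        exact Subgroup.mem_centralizer_singleton_iff.1 (hle hh)
      obtain ⟨K, hK, hKB, hKc⟩ := hB.step hz (hs ⟨k, hn⟩) (ha _) (hb _) (hza _) (hzb _) (hab _)
        (hcom _ (Or.inl rfl)) (hcom _ (Or.inr rfl))
      refine ⟨K, ?_, hKB, by rw [hKc, hc, show 2 * (k + 1) + 1 = (2 * k + 1) + 2 by ring, pow_add]; ring⟩
      rw [hK, hH, ← Subgroup.closure_union]
      congr 1
      ext g
      simp only [Set.mem_union, Set.mem_insert_iff, Set.mem_setOf_eq, Set.mem_singleton_iff]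
      constructor
      · rintro ((h | ⟨i, hi, h⟩) | h | h)
        exacts [Or.inl h, Or.inr ⟨i, by omega, h⟩, Or.inr ⟨⟨k, hn⟩, by simp, Or.inl h⟩,
          Or.inr ⟨⟨k, hn⟩, by simp, Or.inr h⟩]
      · rintro (h | ⟨i, hi, h⟩)
        · exact Or.inl (Or.inl h)
        · rcases Nat.lt_or_ge (i : ℕ) k with hlt | hge
          · exact Or.inl (Or.inr ⟨i, hlt, h⟩)
          · obtain rfl : i = ⟨k, hn⟩ := Fin.ext (by simp; omega)
            exact Or.inr h
  obtain ⟨H, hH, hB, hc⟩ := key 4 le_rfl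
  obtain rfl : S = H := by
    rw [hH]
    show Subgroup.closure _ = Subgroup.closure _
    congr 2
    ext g
    simp only [Set.mem_union, Set.mem_range, Set.mem_setOf_eq]
    constructor
    · rintro (⟨i, rfl⟩ | ⟨i, rfl⟩)
      exacts [⟨i, i.2, Or.inl rfl⟩, ⟨i, i.2, Or.inr rfl⟩]
    · rintro ⟨i, -, rfl | rfl⟩
      exacts [Or.inl ⟨i, rfl⟩, Or.inr ⟨i, rfl⟩]
  refine ⟨hB, hc, ?_⟩
  have hZ : Subgroup.center ↥S = Subgroup.zpowers ⟨z, hB.mem⟩ := by
    refine le_antisymm (fun g hg => ?_) (Subgroup.zpowers_le.2 (Subgroup.mem_center_iff.2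
      fun g => Subtype.ext (hB.cent g g.2).eq.symm))
    obtain ⟨k, hk⟩ := hB.center g g.2 fun h hh =>
      (congrArg Subtype.val (Subgroup.mem_center_iff.1 hg ⟨h, hh⟩)).symm
    exact ⟨k, Subtype.ext (by simpa using hk)⟩
  have hcard : Nat.card (Subgroup.center ↥S) = 3 := by
    rw [hZ, Nat.card_zpowers, ← Subgroup.orderOf_coe]
    exact hz
  have hin : ∀ {g : ↥S}, (g : G) ∈ Subgroup.zpowers z → g ∈ Subgroup.center ↥S := by
    rintro g ⟨k, hk⟩
    rw [hZ]
    exact ⟨k, Subtype.ext (by simpa using hk)⟩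
  haveI : Fact (Nat.Prime 3) := ⟨Nat.prime_three⟩
  refine H24.isExtraspecial_of (IsPGroup.of_card hc) hcard (fun e => ?_) (fun g h => hin ?_)
    (fun g => hin (by rw [Subgroup.coe_pow]; exact hB.cube g g.2))
  · rw [e, Subgroup.card_top, hc] at hcard
    norm_num at hcard
  · obtain ⟨c, hc', e⟩ := hB.comm g g.2 h h.2
    have hcc : ∀ k ∈ S, Commute c k := fun k hk => by
      obtain ⟨i, rfl⟩ := hc'
      exact (hB.cent k hk).zpow_left i
    have : ((⁅g, h⁆ : ↥S) : G) = c := by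
      rw [commutatorElement_def]
      push_cast
      rw [e, mul_assoc ((h : G) * g), (hcc _ (inv_mem g.2)).eq]
      have := (hcc _ (inv_mem h.2)).eq
      calc (h : G) * g * ((g : G)⁻¹ * c) * (h : G)⁻¹ = h * (c * (h : G)⁻¹) := by group
        _ = h * ((h : G)⁻¹ * c) := by rw [this]
        _ = c := by group
    rw [this]
    exact hc'

end Cfsg.Agent.H72.M23Three
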